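import Mathlib

/-!
# Points with values in an algebraically closed extension of the ground field
-/

set_option autoImplicit false
universe u

open AlgebraicGeometry CategoryTheory Limits TopologicalSpace

namespace Groth.Agent.Lib.Helper24.Homog

variable {k K : Type u} [Field k] [Field K] [Algebra k K] [IsAlgClosed K]

/-- a closed point of a scheme locally of finite type over `k` carries a `K`-point -/
theorem exists_Kpoint_of_isClosed_singleton {W : Scheme.{u}} (p : W ⟶ Spec (CommRingCat.of k))
    [LocallyOfFiniteType p] (z : W) (hz : IsClosed ({z} : Set W)) :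
    ∃ y : Spec (CommRingCat.of K) ⟶ W,
      y ≫ p = Spec.map (CommRingCat.ofHom (algebraMap k K)) ∧ ∀ t, y.base t = z := by
  haveI : JacobsonSpace W := LocallyOfFiniteType.jacobsonSpace p
  let φ : CommRingCat.of k ⟶ W.residueField z := Spec.preimage (W.fromSpecResidueField z ≫ p)
  have hφ : Spec.map φ = W.fromSpecResidueField z ≫ p := Spec.map_preimage _
  have hfin : IsFinite (W.fromSpecResidueField z ≫ p) := by
    rw [isClosed_singleton_iff_isClosedImmersion] at hz
    rw [isFinite_iff_locallyOfFiniteType_of_jacobsonSpace]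
    infer_instance
  have hint : φ.hom.IsIntegral := by
    have : IsIntegralHom (Spec.map φ) := by rw [hφ]; infer_instance
    exact (IsIntegralHom.SpecMap_iff).1 this
  letI : Algebra k (W.residueField z) := φ.hom.toAlgebra
  haveI : Algebra.IsIntegral k (W.residueField z) := ⟨hint⟩
  haveI : Algebra.IsAlgebraic k (W.residueField z) := Algebra.IsIntegral.isAlgebraic
  let l : W.residueField z →ₐ[k] K := IsAlgClosed.lift
  refine ⟨Spec.map (CommRingCat.ofHom l.toRingHom) ≫ W.fromSpecResidueField z, ?_, ?_⟩
  · rw [Category.assoc, ← hφ, ← Spec.map_comp]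
    congr 1
    ext1
    exact l.comp_algebraMap
  · intro t
    rw [Scheme.Hom.comp_apply]
    exact Scheme.fromSpecResidueField_apply _ _

theorem exists_Kpoint_mem_closed {W : Scheme.{u}} (p : W ⟶ Spec (CommRingCat.of k))
    [LocallyOfFiniteType p] (Z : Set W) (hZ : IsClosed Z) (hne : Z.Nonempty) :
    ∃ y : Spec (CommRingCat.of K) ⟶ W,
      y ≫ p = Spec.map (CommRingCat.ofHom (algebraMap k K)) ∧ ∀ t, y.base t ∈ Z := by
  haveI : JacobsonSpace W := LocallyOfFiniteType.jacobsonSpace p
  have h1 : (Z ∩ closedPoints W).Nonempty := by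
    by_contra h
    rw [Set.not_nonempty_iff_eq_empty] at h
    have := JacobsonSpace.closure_inter_closedPoints hZ
    rw [h, closure_empty] at this
    exact hne.ne_empty this.symm
  obtain ⟨z, hzZ, hz⟩ := h1
  obtain ⟨y, hy1, hy2⟩ := exists_Kpoint_of_isClosed_singleton (K := K) p z hz
  exact ⟨y, hy1, fun t => by rw [hy2]; exact hzZ⟩

theorem exists_Kpoint_mem_open {W : Scheme.{u}} (p : W ⟶ Spec (CommRingCat.of k))
    [LocallyOfFiniteType p] (V : W.Opens) (hne : (V : Set W).Nonempty) :
    ∃ y : Spec (CommRingCat.of K) ⟶ W,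
      y ≫ p = Spec.map (CommRingCat.ofHom (algebraMap k K)) ∧ ∀ t, y.base t ∈ V := by
  haveI : JacobsonSpace W := LocallyOfFiniteType.jacobsonSpace p
  have hd : Dense (closedPoints W) := by
    rw [dense_iff_closure_eq]
    exact closure_closedPoints
  obtain ⟨z, hzV, hz⟩ := hd.inter_open_nonempty V V.2 hne
  obtain ⟨y, hy1, hy2⟩ := exists_Kpoint_of_isClosed_singleton (K := K) p z hz
  exact ⟨y, hy1, fun t => by rw [hy2]; exact hzV⟩

/-- a morphism with open image which is surjective on `K`-points is surjective -/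
theorem surjective_of_Kpoints {T Y : Scheme.{u}} (q : Y ⟶ Spec (CommRingCat.of k))
    [LocallyOfFiniteType q] (h : T ⟶ Y) (hopen : IsOpen (Set.range h.base))
    (hK : ∀ y : Spec (CommRingCat.of K) ⟶ Y,
      y ≫ q = Spec.map (CommRingCat.ofHom (algebraMap k K)) →
      ∃ t : Spec (CommRingCat.of K) ⟶ T, t ≫ h = y) : Surjective h := by
  constructor
  by_contra hs
  have hne : ((Set.range h.base)ᶜ).Nonempty := by
    rw [Set.nonempty_compl]
    intro he
    exact hs (Set.range_eq_univ.1 he)
  obtain ⟨y, hy1, hy2⟩ := exists_Kpoint_mem_closed (K := K) q _ hopen.isClosed_compl hne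
  obtain ⟨t, ht⟩ := hK y hy1
  let c : ↥(Spec (CommRingCat.of K)) := IsLocalRing.closedPoint K
  apply hy2 c
  rw [← ht, Scheme.Hom.comp_apply]
  exact ⟨_, rfl⟩

end Groth.Agent.Lib.Helper24.Homog
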