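import Mathlib
import Groth.Prelude.Def_AlgGrp
import Groth.Agent.Lib.Helper24.Homog.KPoints
import Groth.Agent.Lib.Helper4.MaxOpenGrp
import Groth.Agent.Lib.Helper4.QuotFlat
import Groth.Agent.S0414

/-!
# Equivariant morphisms to a homogeneous reduced scheme are faithfully flat
-/

set_option autoImplicit false
universe u

open CategoryTheory MonoidalCategory CartesianMonoidalCategory MonObj AlgebraicGeometry Limits

namespace Groth.Agent.Lib.Helper24.Homog

open Groth.Agent.Lib.Helper4 Groth.Agent.Lib.Helper4.ActShear Groth.Agent.Lib.Helper4.ActShear2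
  Groth.Agent.Lib.Helper4.MaxOpen Groth.Agent.Lib.Helper4.MaxOpenGrp

variable {S : Scheme.{u}} {G X Y : Over S} [GrpObj G] (a : AlgGrp.Action G X)
  (b : AlgGrp.Action G Y) (f : X ⟶ Y)

theorem shear_whisker (hf : (G ◁ f) ≫ b.act = a.act ≫ f) :
    shear a ≫ (G ◁ f) = (G ◁ f) ≫ shear b := by
  unfold shear
  apply CartesianMonoidalCategory.hom_ext
  · simp
  · simp [hf]

/-- the action square of an equivariant morphism is cartesian -/
theorem isPullback_act_of_equivariant (hf : (G ◁ f) ≫ b.act = a.act ≫ f) :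
    IsPullback (G ◁ f).left a.act.left b.act.left f.left := by
  have h1 : IsPullback (G ◁ f).left (shear a).left (shear b).left (G ◁ f).left :=
    IsPullback.of_vert_isIso ⟨by
      rw [← Over.comp_left, ← Over.comp_left, shear_whisker a b f hf]⟩
  have h2 := h1.paste_vert (isPullback_whiskerLeft G X Y f)
  rwa [← Over.comp_left, ← Over.comp_left, shear_snd, shear_snd] at h2

theorem equivariant_flat_surjective (k K : Type u) [Field k] [Field K] [Algebra k K]
    [IsAlgClosed K] (G X Y : Over (Spec (CommRingCat.of k))) [GrpObj G]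
    [LocallyOfFiniteType G.hom] [QuasiCompact G.hom] [LocallyOfFiniteType X.hom]
    [LocallyOfFiniteType Y.hom]
    [Nonempty X.left] [IsReduced Y.left] (a : AlgGrp.Action G X) (b : AlgGrp.Action G Y)
    (f : X ⟶ Y) [QuasiCompact f.left] (hf : (G ◁ f) ≫ b.act = a.act ≫ f)
    (htr : ∀ y y' : Over.mk (Spec.map (CommRingCat.ofHom (algebraMap k K))) ⟶ Y,
      ∃ g : Over.mk (Spec.map (CommRingCat.ofHom (algebraMap k K))) ⟶ G, lift g y ≫ b.act = y') :
    Flat f.left ∧ Surjective f.left := by
  haveI : IsLocallyNoetherian Y.left := LocallyOfFiniteType.isLocallyNoetherian Y.hom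
  haveI : LocallyOfFiniteType f.left := by
    have : LocallyOfFiniteType (f.left ≫ Y.hom) := by rw [Over.w f]; infer_instance
    exact locallyOfFiniteType_of_comp f.left Y.hom
  haveI : LocallyOfFinitePresentation f.left :=
    LocallyOfFinitePresentation.iff_locallyOfFiniteType.2 inferInstance
  -- generic flatness
  obtain ⟨V, hVd, hVflat, -⟩ := Groth.Agent.S0414.result f.left
  have hVne : (V : Set Y.left).Nonempty := by
    obtain ⟨x⟩ := (inferInstance : Nonempty X.left)
    exact hVd.nonempty_iff.2 ⟨f.left.base x⟩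
  -- the cover `G × V → Y`
  let W : (G ⊗ Y).left.Opens := (snd G Y).left ⁻¹ᵁ V
  have hWflat : Flat ((G ◁ f).left ∣_ W) :=
    P_restrict_of_isPullback @Flat (isPullback_whiskerLeft G X Y f) V W le_rfl hVflat
  have hbflat : Flat b.act.left := (main7994 k G Y b).1
  have hbqc : QuasiCompact b.act.left := of_base_change b @QuasiCompact inferInstance
  have hblft : LocallyOfFiniteType b.act.left := of_base_change b @LocallyOfFiniteType inferInstance
  haveI : IsLocallyNoetherian (G ⊗ Y).left := by
    have : LocallyOfFiniteType (b.act.left ≫ Y.hom) := inferInstance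
    exact LocallyOfFiniteType.isLocallyNoetherian (b.act.left ≫ Y.hom)
  let b' : W.toScheme ⟶ Y.left := W.ι ≫ b.act.left
  haveI : Flat b' := inferInstance
  haveI : QuasiCompact b' := inferInstance
  haveI : LocallyOfFiniteType b' := inferInstance
  haveI : LocallyOfFinitePresentation b' :=
    LocallyOfFinitePresentation.iff_locallyOfFiniteType.2 inferInstance
  obtain ⟨v, hv1, hv2⟩ := exists_Kpoint_mem_open (K := K) Y.hom V hVne
  let vK : Over.mk (Spec.map (CommRingCat.ofHom (algebraMap k K))) ⟶ Y := Over.homMk v hv1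
  have hb'surj : Surjective b' := by
    haveI : UniversallyOpen b' := UniversallyOpen.of_flat b'
    apply surjective_of_Kpoints (K := K) Y.hom b' b'.isOpenMap.isOpen_range
    intro y hy
    let yK : Over.mk (Spec.map (CommRingCat.ofHom (algebraMap k K))) ⟶ Y := Over.homMk y hy
    obtain ⟨g, hg⟩ := htr vK yK
    have hrange : Set.range (lift g vK).left.base ⊆ Set.range W.ι.base := by
      rw [W.range_ι]
      rintro _ ⟨t, rfl⟩
      change (snd G Y).left.base ((lift g vK).left.base t) ∈ V
      rw [← Scheme.Hom.comp_apply, ← Over.comp_left, lift_snd]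
      exact hv2 t
    refine ⟨IsOpenImmersion.lift W.ι (lift g vK).left hrange, ?_⟩
    change _ ≫ W.ι ≫ b.act.left = y
    rw [← Category.assoc, IsOpenImmersion.lift_fac, ← Over.comp_left, hg]
    rfl
  -- descent of flatness
  have bigsq : IsPullback ((G ◁ f).left ∣_ W) (((G ◁ f).left ⁻¹ᵁ W).ι ≫ a.act.left) b' f.left :=
    (isPullback_morphismRestrict (G ◁ f).left W).paste_vert
      (isPullback_act_of_equivariant a b f hf)
  have hflat : Flat f.left :=
    MorphismProperty.of_isPullback_of_descendsAlong (P := @Flat)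
      (Q := @Surjective ⊓ @Flat ⊓ @QuasiCompact) bigsq ⟨⟨hb'surj, inferInstance⟩, inferInstance⟩
      hWflat
  refine ⟨hflat, ?_⟩
  -- surjectivity
  haveI : UniversallyOpen f.left := UniversallyOpen.of_flat f.left
  apply surjective_of_Kpoints (K := K) Y.hom f.left f.left.isOpenMap.isOpen_range
  intro y hy
  let yK : Over.mk (Spec.map (CommRingCat.ofHom (algebraMap k K))) ⟶ Y := Over.homMk y hy
  obtain ⟨x, hx1, -⟩ := exists_Kpoint_mem_open (K := K) X.hom ⊤
    (by obtain ⟨x⟩ := (inferInstance : Nonempty X.left); exact ⟨x, trivial⟩)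
  let xK : Over.mk (Spec.map (CommRingCat.ofHom (algebraMap k K))) ⟶ X := Over.homMk x hx1
  obtain ⟨g, hg⟩ := htr (xK ≫ f) yK
  refine ⟨(lift g xK ≫ a.act).left, ?_⟩
  rw [← Over.comp_left, Category.assoc, ← hf, ← Category.assoc, lift_whiskerLeft, hg]
  rfl

end Groth.Agent.Lib.Helper24.Homog
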